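import Groth.Agent.FEtSh4.RepDescend
import Groth.Prelude.Def_EtOpen

/-! Finite locally constant sheaves of sets are representable by finite étale schemes. -/

set_option autoImplicit false
set_option backward.isDefEq.respectTransparency.types false
universe u

open CategoryTheory CategoryTheory.Limits AlgebraicGeometry Opposite

namespace Groth.Agent.FEtSh4

open Groth.Agent.Unr55.FLC (sigmaObj sigmaInj cpy proj)

theorem exists_repSh {S : Scheme.{u}} (F : EtDesc.Sh S) (hF : CohProp.IsFinLocConstSet F) :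
    ∃ (U : S.Etale) (_ : IsFinite U.hom), Nonempty (F ≅ EtDesc.repSh U) := by
  obtain ⟨ι, U, hcov, hU⟩ := hF
  choose M hM hψ using hU
  have ψ : ∀ i, Triv F (U i) (M i) := fun i => Triv.ofConst (hψ i).some
  let T : ι → Type u := fun i => ULift.{u} (Fin (Nat.card (M i)))
  let e : ∀ i, T i ≃ M i := fun i =>
    have := hM i
    Equiv.ulift.trans (Finite.equivFin (M i)).symm
  obtain ⟨σ, hσ⟩ := exists_univSec e ψ
  have hrep := isRepOver_sigma e ψ σ hσ
  have : IsFinite (proj U T).left := Groth.Agent.Unr55.FLC.isFinite_proj U T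
  have : Surjective (sigmaObj U).hom := ⟨fun x => by
    obtain ⟨i, y, hy⟩ := hcov x
    refine ⟨(sigmaInj U i).left y, Eq.trans ?_ hy⟩
    exact congrArg (fun g : (U i).left ⟶ S => g y) (MorphismProperty.Over.w (sigmaInj U i))⟩
  obtain ⟨G, hG, ⟨iso⟩⟩ := exists_representable (proj U T) σ hrep
  exact ⟨G, hG, ⟨sheafificationIso F ≪≫ (presheafToSheaf _ _).mapIso iso⟩⟩

end Groth.Agent.FEtSh4
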