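import Groth.Agent.EtSets93.Push
import Groth.Agent.EtCore45.SheafCrit
import Groth.Prelude.Def_CohProp
import Mathlib.CategoryTheory.Sites.LocallyBijective
import Mathlib.Topology.LocallyConstant.Basic

/-! The constant sheaf of sets on the small étale site is the sheaf of locally constant functions. -/

set_option autoImplicit false
set_option backward.isDefEq.respectTransparency.types false
universe u

open CategoryTheory CategoryTheory.Limits AlgebraicGeometry Opposite

namespace Groth.Agent.FEtSh4

open Groth.Agent.EtCore45 (objOf objOfHom etale_left)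
open Groth.Agent.Unr55

variable {X : Scheme.{u}} (M : Type (u + 1))

/-- Locally constant functions as a presheaf of sets on the small étale site. -/
noncomputable def lcPre : X.Etaleᵒᵖ ⥤ Type (u + 1) where
  obj W := LocallyConstant W.unop.left M
  map g := ↾fun t => LocallyConstant.comap ⟨g.unop.left, g.unop.left.continuous⟩ t
  map_id _ := rfl
  map_comp _ _ := rfl

theorem lcPre_map {V W : X.Etale} (g : V ⟶ W) (t : LocallyConstant W.left M) (v : V.left) :
    (show LocallyConstant V.left M from (lcPre M).map g.op t) v = t (g.left v) := rfl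

theorem isSheaf_lcPre : Presheaf.IsSheaf X.smallEtaleTopology (lcPre (X := X) M) := by
  rw [isSheaf_iff_isSheaf_of_type]
  intro U S hS x hx
  have cov : ∀ p : U.left, ∃ (Y : X.Etale) (f : Y ⟶ U) (y : Y.left), S f ∧ f.left y = p := fun p => by
    obtain ⟨Y, f, y, h, -, e⟩ := (EtCore45.mem_et S).1 hS p
    exact ⟨Y, f, y, h, e⟩
  let v {Y : X.Etale} (f : Y ⟶ U) (hf : S f) : LocallyConstant Y.left M := x f hf
  have key : ∀ {Y Z : X.Etale} (f : Y ⟶ U) (g : Z ⟶ U) (hf : S f) (hg : S g) (y : Y.left) (z : Z.left),
      f.left y = g.left z → v f hf y = v g hg z := by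
    intro Y Z f g hf hg y z e
    have := etale_left g
    obtain ⟨p, hp1, hp2⟩ := Scheme.Pullback.exists_preimage_pullback (f := f.left) (g := g.left) y z e
    have he : Etale (pullback.fst f.left g.left) := MorphismProperty.pullback_fst _ _ inferInstance
    let P := objOf Y (pullback.fst f.left g.left)
    let a : P ⟶ Y := objOfHom Y _
    let b : P ⟶ Z := MorphismProperty.Over.homMk (pullback.snd f.left g.left) (by
      change pullback.snd f.left g.left ≫ Z.hom = pullback.fst f.left g.left ≫ Y.hom
      have hg' : Z.hom = g.left ≫ U.hom := (MorphismProperty.Over.w g).symm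
      have hf' : Y.hom = f.left ≫ U.hom := (MorphismProperty.Over.w f).symm
      rw [hg', hf']
      exact (pullback.condition_assoc _).symm)
    have hab : a ≫ f = b ≫ g := MorphismProperty.Over.Hom.ext pullback.condition
    have h := congrArg (fun t : LocallyConstant P.left M => t p) (hx a b hf hg hab)
    change v f hf (a.left p) = v g hg (b.left p) at h
    rwa [show a.left p = y from hp1, show b.left p = z from hp2] at h
  choose Y f y hf hy using cov
  let val : U.left → M := fun p => v (f p) (hf p) (y p)
  have hval : ∀ {Z : X.Etale} (g : Z ⟶ U) (hg : S g) (z : Z.left), val (g.left z) = v g hg z :=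
    fun g hg z => key _ _ _ _ _ _ (hy _)
  have hlc : IsLocallyConstant val := by
    refine IsLocallyConstant.iff_isOpen_fiber.mpr fun m => ?_
    have e : val ⁻¹' {m} = ⋃ p, (f p).left '' (v (f p) (hf p) ⁻¹' {m}) := by
      ext q
      simp only [Set.mem_preimage, Set.mem_singleton_iff, Set.mem_iUnion, Set.mem_image]
      constructor
      · exact fun hq => ⟨q, y q, hq, hy q⟩
      · rintro ⟨p, z, hz, rfl⟩
        exact (hval _ _ z).trans hz
    rw [e]
    refine isOpen_iUnion fun p => ?_
    have := etale_left (f p)
    exact (f p).left.isOpenMap _ ((v (f p) (hf p)).isLocallyConstant.isOpen_fiber m)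
  refine ⟨(⟨val, hlc⟩ : LocallyConstant U.left M), fun Z g hg => LocallyConstant.ext (hval g hg), ?_⟩
  intro t ht
  refine LocallyConstant.ext fun p => ?_
  have h := congrArg (fun s : LocallyConstant (Y p).left M => s (y p)) (ht (f p) (hf p))
  change (show LocallyConstant U.left M from t) ((f p).left (y p)) = v (f p) (hf p) (y p) at h
  rwa [hy p] at h

/-- The sheaf of locally constant functions. -/
noncomputable def lc : EtDesc.Sh X := ⟨lcPre M, isSheaf_lcPre M⟩

/-- Constant functions. -/
noncomputable def constToLC : (Functor.const X.Etaleᵒᵖ).obj M ⟶ (lc (X := X) M).obj where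
  app W := ↾fun m => LocallyConstant.const W.unop.left m
  naturality _ _ _ := rfl

instance : Presheaf.IsLocallyInjective X.smallEtaleTopology (constToLC (X := X) M) where
  equalizerSieve_mem := by
    intro W m n h
    refine EtSh.mem_topology fun x => ⟨W.unop, 𝟙 _, x, ?_, rfl⟩
    exact congrArg (fun s : LocallyConstant W.unop.left M => s x) h

instance : Presheaf.IsLocallySurjective X.smallEtaleTopology (constToLC (X := X) M) where
  imageSieve_mem := by
    intro W t
    refine EtSh.mem_topology fun x => ?_
    let t' : LocallyConstant W.left M := t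
    let O : W.left.Opens := ⟨t' ⁻¹' {t' x}, t'.isLocallyConstant.isOpen_fiber _⟩
    refine ⟨objOf W O.ι, objOfHom W O.ι, (⟨x, rfl⟩ : O), ?_, rfl⟩
    exact ⟨t' x, LocallyConstant.ext fun (z : O) => z.2.symm⟩

/-- The constant sheaf is the sheaf of locally constant functions. -/
noncomputable def constIso : CohProp.constSh X M ≅ lc M :=
  @asIso _ _ _ _ ((presheafToSheaf X.smallEtaleTopology (Type (u + 1))).map (constToLC M))
      ((X.smallEtaleTopology.W_iff _).1 (X.smallEtaleTopology.W_of_isLocallyBijective (constToLC M))) ≪≫
    (sheafificationIso (lc M)).symm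

/-- A trivialisation of `F` over `U` with values in `A`. -/
abbrev Triv (F : EtDesc.Sh X) (U : X.Etale) (A : Type (u + 1)) : Type (u + 1) :=
  F.over U ≅ (lc A).over U

variable {M}
variable {F : EtDesc.Sh X} {U : X.Etale} {A : Type (u + 1)}

/-- The trivialisation given by an isomorphism with a constant sheaf. -/
noncomputable def Triv.ofConst (e : F.over U ≅ (CohProp.constSh X A).over U) : Triv F U A :=
  e ≪≫ (X.smallEtaleTopology.overPullback (Type (u + 1)) U).mapIso (constIso A)

/-- A trivialisation on sections. -/
noncomputable def Triv.sec (ψ : Triv F U A) {W : X.Etale} (a : W ⟶ U) :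
    F.obj.obj (op W) ≅ LocallyConstant W.left A :=
  ((sheafToPresheaf _ _).mapIso ψ).app (op (Over.mk a))

theorem Triv.sec_natural_apply (ψ : Triv F U A) {W V : X.Etale} (a : W ⟶ U) (c : V ⟶ W) (b : V ⟶ U)
    (hb : c ≫ a = b) (s : F.obj.obj (op W)) (v : V.left) :
    (show LocallyConstant V.left A from (ψ.sec b).hom (F.obj.map c.op s)) v =
      (show LocallyConstant W.left A from (ψ.sec a).hom s) (c.left v) :=
  congrArg (fun t : LocallyConstant V.left A => t v)
    (NatTrans.naturality_apply ψ.hom.hom (Over.homMk c hb : Over.mk b ⟶ Over.mk a).op s)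

end Groth.Agent.FEtSh4
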