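import Groth.Prelude.Def_CohProp
import Groth.Prelude.Def_EtOpen
import Groth.Agent.Unr55.Et.SplitScheme
import Groth.Agent.Unr55.Et.Stalk
import Groth.Agent.EtCore45.SheafCrit
import Mathlib.CategoryTheory.Sites.CoverLifting
import Mathlib.CategoryTheory.Sites.LocallyBijective
import Mathlib.AlgebraicGeometry.Morphisms.FormallyUnramified

/-! The sheaf of sets of a finite étale scheme is finite locally constant. -/

set_option autoImplicit false
set_option backward.isDefEq.respectTransparency.types false
universe u

open CategoryTheory CategoryTheory.Limits AlgebraicGeometry Opposite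

namespace Groth.Agent.FEtSh4

open Groth.Agent.EtCore45 (objOf objOfHom)

variable {S X : Scheme.{u}} (f : X ⟶ S) [Etale f]

/-- Restriction commutes with sheafification. -/
noncomputable def overSheafifyIso (V : S.Etale) (P : S.Etaleᵒᵖ ⥤ Type (u + 1)) :
    ((presheafToSheaf S.smallEtaleTopology (Type (u + 1))).obj P).over V ≅
      (presheafToSheaf (S.smallEtaleTopology.over V) (Type (u + 1))).obj ((Over.forget V).op ⋙ P) :=
  (((Over.forget V).pushforwardContinuousSheafificationCompatibility (Type (u + 1))
    (S.smallEtaleTopology.over V) S.smallEtaleTopology).app P).symm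

/-- A section of `X` over `V` for each member of `ι`. -/
noncomputable def sectionsHom (V : S.Etale) {ι : Type u} (t : ι → (V.left ⟶ X)) (h : ∀ k, t k ≫ f = V.hom) :
    (Over.forget V).op ⋙ (Functor.const S.Etaleᵒᵖ).obj (ULift.{u + 1} ι) ⟶
      (Over.forget V).op ⋙ yoneda.obj (Scheme.Etale.mk f) ⋙ uliftFunctor.{u + 1, u} where
  app W := ↾fun k => ⟨W.unop.hom ≫ MorphismProperty.Over.homMk (t k.down) (h k.down) trivial⟩
  naturality W W' g := by
    ext k
    apply ULift.ext
    show W'.unop.hom ≫ _ = g.unop.left ≫ W.unop.hom ≫ _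
    rw [← Category.assoc, Over.w g.unop]
    rfl

theorem isLocallyInjective (V : S.Etale) {ι : Type u} (t : ι → (V.left ⟶ X))
    (ht : Groth.Agent.Unr55.SplitEt.IsSplitBy f V t) :
    Presheaf.IsLocallyInjective (S.smallEtaleTopology.over V) (sectionsHom f V t ht.1) where
  equalizerSieve_mem := by
    intro W m n h
    rw [GrothendieckTopology.mem_over_iff]
    refine Unr55.EtSh.mem_topology fun x => ⟨W.unop.left, 𝟙 _, x, ?_, rfl⟩
    rw [Sieve.overEquiv_iff]
    have h1 : W.unop.hom.left ≫ t m.down = W.unop.hom.left ≫ t n.down :=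
      congrArg (fun e : ULift.{u + 1} (W.unop.left ⟶ Scheme.Etale.mk f) => e.down.left) h
    let p : Spec (W.unop.left.left.residueField x) ⟶ V.left :=
      W.unop.left.left.fromSpecResidueField x ≫ W.unop.hom.left
    obtain ⟨k, -, hk⟩ := ht.2 _ p (p ≫ t m.down) (by rw [Category.assoc, ht.1])
    have h2 : m.down = n.down :=
      (hk m.down rfl).trans (hk n.down ((Category.assoc _ _ _).trans ((congrArg (fun q => W.unop.left.left.fromSpecResidueField x ≫ q) h1).trans (Category.assoc _ _ _).symm))).symm
    exact congrArg _ (ULift.ext _ _ h2)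

theorem isLocallySurjective (V : S.Etale) {ι : Type u} (t : ι → (V.left ⟶ X))
    (ht : Groth.Agent.Unr55.SplitEt.IsSplitBy f V t) :
    Presheaf.IsLocallySurjective (S.smallEtaleTopology.over V) (sectionsHom f V t ht.1) where
  imageSieve_mem := by
    intro W s
    rw [GrothendieckTopology.mem_over_iff]
    refine Unr55.EtSh.mem_topology fun x => ?_
    let a : W.left.left ⟶ V.left := W.hom.left
    let b : W.left.left ⟶ X := (show ULift.{u + 1} (W.left ⟶ Scheme.Etale.mk f) from s).down.left
    have hb : b ≫ f = W.left.hom := MorphismProperty.Over.w _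
    have ha : a ≫ V.hom = W.left.hom := MorphismProperty.Over.w _
    let p := W.left.left.fromSpecResidueField x
    obtain ⟨k, hk, -⟩ := ht.2 _ (p ≫ a) (p ≫ b) (by simp only [Category.assoc, hb, ha])
    let l : W.left.left ⟶ pullback f f := pullback.lift b (a ≫ t k) (by rw [hb, Category.assoc, ht.1, ha])
    let E := pullback l (pullback.diagonal f)
    let i : E ⟶ W.left.left := pullback.fst l (pullback.diagonal f)
    obtain ⟨z, hz⟩ : ∃ z : E, i z = x := by
      refine ⟨pullback.lift p (p ≫ b) (pullback.hom_ext ?_ ?_) (IsLocalRing.closedPoint _), ?_⟩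
      · rw [Category.assoc, Category.assoc, pullback.diagonal_fst, Category.comp_id]
        exact congrArg (fun q => p ≫ q) (pullback.lift_fst _ _ _)
      · rw [Category.assoc, Category.assoc, pullback.lift_snd, pullback.diagonal_snd, Category.comp_id]
        exact (hk.trans (Category.assoc _ _ _)).symm
      · rw [← Scheme.Hom.comp_apply, pullback.lift_fst]
        exact W.left.left.fromSpecResidueField_apply x _
    refine ⟨objOf W.left i, objOfHom W.left i, z, ?_, hz⟩
    rw [Sieve.overEquiv_iff]
    refine ⟨⟨k⟩, ULift.ext _ _ ?_⟩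
    refine MorphismProperty.Over.Hom.ext ?_
    show (i ≫ a) ≫ t k = i ≫ b
    have h1 := congrArg (fun q => q ≫ pullback.fst f f) (pullback.condition (f := l) (g := pullback.diagonal f))
    have h2 := congrArg (fun q => q ≫ pullback.snd f f) (pullback.condition (f := l) (g := pullback.diagonal f))
    simp only [l, Category.assoc, pullback.lift_fst, pullback.lift_snd, pullback.diagonal_fst, pullback.diagonal_snd,
      Category.comp_id] at h1 h2
    rw [Category.assoc]
    exact h2.trans h1.symm

theorem isFinLocConstSet_repSh [IsFinite f] :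
    CohProp.IsFinLocConstSet (EtDesc.repSh (Scheme.Etale.mk f)) := by
  choose V hV n t ht using fun y : S => Groth.Agent.Unr55.SplitEt.exists_isSplitBy f y
  refine ⟨S, V, fun y => ?_, fun y => ⟨ULift.{u + 1} (ULift.{u} (Fin (n y))), inferInstance, ⟨?_⟩⟩⟩
  · obtain ⟨v, hv⟩ := hV y
    exact ⟨y, v, hv⟩
  · have := isLocallyInjective f (V y) (t y) (ht y)
    have := isLocallySurjective f (V y) (t y) (ht y)
    exact (overSheafifyIso (V y) _ ≪≫
      (@asIso _ _ _ _ ((presheafToSheaf (S.smallEtaleTopology.over (V y)) (Type (u + 1))).map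
          (sectionsHom f (V y) (t y) (ht y).1))
        (((S.smallEtaleTopology.over (V y)).W_iff _).1
          ((S.smallEtaleTopology.over (V y)).W_of_isLocallyBijective _))).symm ≪≫
      (overSheafifyIso (V y) _).symm)

end Groth.Agent.FEtSh4
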