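import Groth.Agent.FEtSh4.LCSet
import Groth.Agent.Unr55.Et.RepLocal

/-! A locally trivialised sheaf of sets with finite values is represented over the covering. -/

set_option autoImplicit false
set_option backward.isDefEq.respectTransparency.types false
universe u

open CategoryTheory CategoryTheory.Limits AlgebraicGeometry Opposite

namespace Groth.Agent.FEtSh4

open Groth.Agent.EtCore45 (objOf objOfHom etale_left)
open Groth.Agent.Unr55
open Groth.Agent.Unr55.FLC (sigmaObj sigmaInj exists_sigmaInj sigma_idx_eq isOpenImmersion_sigmaInj hom_ext_local exists_glue_local cpy proj sigmaInj_proj exists_factor)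

variable {X : Scheme.{u}}

/-- `σ` makes `E` represent `F` over `U'`. -/
def IsRepOver (F : EtDesc.Sh X) {E U' : X.Etale} (q : E ⟶ U') (σ : F.obj.obj (op E)) : Prop :=
  ∀ (W : X.Etale) (a : W ⟶ U') (s : F.obj.obj (op W)),
    ∃! b : W ⟶ E, b ≫ q = a ∧ F.obj.map b.op σ = s

variable {F : EtDesc.Sh X} {ι : Type u} {U : ι → X.Etale} {A : ι → Type (u + 1)}
  {T : ι → Type u} (e : ∀ i, T i ≃ A i) (ψ : ∀ i, Triv F (U i) (A i))

/-- The tautological section on a copy. -/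
noncomputable def tautSec (k : Σ i, T i) : F.obj.obj (op (cpy U T k)) :=
  ((ψ k.1).sec (𝟙 (U k.1))).inv (show LocallyConstant (U k.1).left (A k.1) from
    LocallyConstant.const _ (e k.1 k.2))

theorem exists_univSec : ∃ σ : F.obj.obj (op (sigmaObj (cpy U T))),
    ∀ k, F.obj.map (sigmaInj (cpy U T) k).op σ = tautSec e ψ k := by
  have hcov : Sieve.ofArrows (cpy U T) (sigmaInj (cpy U T)) ∈ X.smallEtaleTopology _ :=
    EtSh.mem_topology fun z => by
      obtain ⟨k, y, hy⟩ := exists_sigmaInj (cpy U T) z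
      exact ⟨_, _, y, Sieve.ofArrows_mk _ _ k, hy⟩
  have hs : Presieve.IsSheafFor F.obj (Presieve.ofArrows _ (sigmaInj (cpy U T))) :=
    (Presieve.isSheafFor_iff_generate _).2 (((isSheaf_iff_isSheaf_of_type _ _).1 F.property) _ hcov)
  rw [Presieve.isSheafFor_arrows_iff] at hs
  obtain ⟨σ, hσ, -⟩ := hs (tautSec e ψ) fun k l Z gk gl h => by
    change F.obj.map gk.op _ = F.obj.map gl.op _
    by_cases hZ : Nonempty Z.left
    · obtain ⟨z⟩ := hZ
      obtain rfl := sigma_idx_eq (cpy U T) (y := gk.left z) (y' := gl.left z)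
        (congrArg (fun m : Z ⟶ sigmaObj (cpy U T) => m.left z) h)
      have := isOpenImmersion_sigmaInj (cpy U T) k
      rw [show gk = gl from MorphismProperty.Over.Hom.ext
        ((cancel_mono (sigmaInj (cpy U T) k).left).1
          (congrArg (fun m : Z ⟶ sigmaObj (cpy U T) => m.left) h))]
    · exact EtSets93.sect_ext F _ _ fun z => (hZ ⟨z⟩).elim
  exact ⟨σ, hσ⟩

variable (σ : F.obj.obj (op (sigmaObj (cpy U T))))
  (hσ : ∀ k, F.obj.map (sigmaInj (cpy U T) k).op σ = tautSec e ψ k)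

include hσ in
theorem map_sigma_apply {W : X.Etale} {k : Σ i, T i} (c : W ⟶ cpy U T k) (w : W.left) :
    (show LocallyConstant W.left (A k.1) from ((ψ k.1).sec (c ≫ 𝟙 _)).hom
      (F.obj.map (c ≫ sigmaInj (cpy U T) k).op σ)) w = e k.1 k.2 := by
  rw [op_comp, Functor.map_comp_apply, hσ]
  refine ((ψ k.1).sec_natural_apply (𝟙 _) c (c ≫ 𝟙 _) rfl _ w).trans ?_
  rw [show ((ψ k.1).sec (𝟙 _)).hom (tautSec e ψ k) = _ from
    ((ψ k.1).sec (𝟙 _)).toEquiv.apply_symm_apply _]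
  rfl

include hσ in
theorem unique_rep {W : X.Etale} (b b' : W ⟶ sigmaObj (cpy U T)) (h : b ≫ proj U T = b' ≫ proj U T)
    (hs : F.obj.map b.op σ = F.obj.map b'.op σ) : b = b' := by
  refine hom_ext_local b b' fun p => ?_
  obtain ⟨k, O₁, c₁, hp₁, hc₁⟩ := exists_factor b p
  obtain ⟨l, O₂, c₂, hp₂, hc₂⟩ := exists_factor b' p
  let O := O₁ ⊓ O₂
  let r₁ : objOf W O.ι ⟶ objOf W O₁.ι := MorphismProperty.Over.homMk (W.left.homOfLE inf_le_left)
    (W.left.homOfLE_ι_assoc (inf_le_left : O ≤ O₁) W.hom)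
  let r₂ : objOf W O.ι ⟶ objOf W O₂.ι := MorphismProperty.Over.homMk (W.left.homOfLE inf_le_right)
    (W.left.homOfLE_ι_assoc (inf_le_right : O ≤ O₂) W.hom)
  have hr₁ : r₁ ≫ objOfHom W O₁.ι = objOfHom W O.ι :=
    MorphismProperty.Over.Hom.ext (W.left.homOfLE_ι inf_le_left)
  have hr₂ : r₂ ≫ objOfHom W O₂.ι = objOfHom W O.ι :=
    MorphismProperty.Over.Hom.ext (W.left.homOfLE_ι inf_le_right)
  have e₁ : (r₁ ≫ c₁) ≫ sigmaInj _ k = objOfHom W O.ι ≫ b := by
    rw [Category.assoc, hc₁, ← Category.assoc, hr₁]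
  have e₂ : (r₂ ≫ c₂) ≫ sigmaInj _ l = objOfHom W O.ι ≫ b' := by
    rw [Category.assoc, hc₂, ← Category.assoc, hr₂]
  let z : (objOf W O.ι).left := (⟨p, hp₁, hp₂⟩ : O)
  have hproj : (r₁ ≫ c₁) ≫ sigmaInj U k.1 = (r₂ ≫ c₂) ≫ sigmaInj U l.1 := by
    rw [← sigmaInj_proj U T k, ← sigmaInj_proj U T l, ← Category.assoc _ (sigmaInj _ k) (proj U T),
      ← Category.assoc _ (sigmaInj _ l) (proj U T), e₁, e₂, Category.assoc, Category.assoc, h]
  obtain ⟨i, m⟩ := k
  obtain ⟨j, n⟩ := l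
  obtain rfl : i = j := sigma_idx_eq U (y := (r₁ ≫ c₁).left z) (y' := (r₂ ≫ c₂).left z)
    (congrArg (fun g : objOf W O.ι ⟶ sigmaObj U => g.left z) hproj)
  have := isOpenImmersion_sigmaInj U i
  have hc : r₁ ≫ c₁ = r₂ ≫ c₂ := MorphismProperty.Over.Hom.ext
    ((cancel_mono (sigmaInj U i).left).1 (congrArg (fun g : objOf W O.ι ⟶ sigmaObj U => g.left) hproj))
  refine ⟨O, ⟨hp₁, hp₂⟩, ?_⟩
  obtain rfl : m = n := by
    apply (e i).injective
    refine (map_sigma_apply e ψ σ hσ (k := ⟨i, m⟩) (r₁ ≫ c₁) z).symm.trans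
      (Eq.trans ?_ (map_sigma_apply e ψ σ hσ (k := ⟨i, n⟩) (r₂ ≫ c₂) z))
    rw [e₁, e₂, op_comp, op_comp, Functor.map_comp_apply, Functor.map_comp_apply, hs, hc]
  rw [← e₁, ← e₂, hc]

include hσ in
theorem isRepOver_sigma : IsRepOver F (proj U T) σ := by
  intro W a s
  have loc : ∀ p : W.left, ∃ (O : W.left.Opens) (b : objOf W O.ι ⟶ sigmaObj (cpy U T)), p ∈ O ∧
      b ≫ proj U T = objOfHom W O.ι ≫ a ∧ F.obj.map b.op σ = F.obj.map (objOfHom W O.ι).op s := by
    intro p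
    obtain ⟨i, O₁, c, hp, hc⟩ := exists_factor a p
    let f : LocallyConstant (objOf W O₁.ι).left (A i) :=
      ((ψ i).sec (c ≫ 𝟙 _)).hom (F.obj.map (objOfHom W O₁.ι).op s)
    let val : A i := f (⟨p, hp⟩ : O₁)
    let O₂ : (O₁ : Scheme.{u}).Opens := ⟨f ⁻¹' {val}, f.isLocallyConstant.isOpen_fiber val⟩
    let O : W.left.Opens := O₁.ι ''ᵁ O₂
    have hle : O ≤ O₁ := O₁.ι_image_le _
    let r : objOf W O.ι ⟶ objOf W O₁.ι :=
      MorphismProperty.Over.homMk (W.left.homOfLE hle) (W.left.homOfLE_ι_assoc hle W.hom)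
    have hr : r ≫ objOfHom W O₁.ι = objOfHom W O.ι := MorphismProperty.Over.Hom.ext (W.left.homOfLE_ι hle)
    refine ⟨O, (r ≫ c) ≫ sigmaInj (cpy U T) ⟨i, (e i).symm val⟩, ⟨⟨p, hp⟩, rfl, rfl⟩, ?_, ?_⟩
    · rw [Category.assoc, sigmaInj_proj, Category.assoc, hc, ← Category.assoc, hr]
    · apply ((ψ i).sec ((r ≫ c) ≫ 𝟙 _)).toEquiv.injective
      refine LocallyConstant.ext fun (w : (O : Scheme.{u})) => ?_
      refine (map_sigma_apply e ψ σ hσ (k := ⟨i, (e i).symm val⟩) (r ≫ c) w).trans ?_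
      refine ((e i).apply_symm_apply val).trans ?_
      rw [← hr, op_comp, Functor.map_comp_apply]
      refine Eq.trans ?_ ((ψ i).sec_natural_apply (c ≫ 𝟙 _) r _ (Category.assoc _ _ _).symm _ w).symm
      obtain ⟨w', hw', e'⟩ := w.2
      have hwv : r.left w = w' := O₁.ι.isOpenEmbedding.injective
        ((congrArg (fun m : objOf W O.ι ⟶ W => m.left w) hr).trans e'.symm)
      change val = f (r.left w)
      rw [hwv]
      exact hw'.symm
  choose O b hO hb1 hb2 using loc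
  obtain ⟨B, hB⟩ := exists_glue_local O hO b fun p p' Z g g' hg => unique_rep e ψ σ hσ _ _
    (by rw [Category.assoc, Category.assoc, hb1, hb1, ← Category.assoc, ← Category.assoc, hg])
    (by rw [op_comp, op_comp, Functor.map_comp_apply, Functor.map_comp_apply, hb2, hb2,
      ← Functor.map_comp_apply, ← Functor.map_comp_apply, ← op_comp, ← op_comp, hg])
  refine ⟨B, ⟨hom_ext_local _ _ fun p => ⟨O p, hO p, ?_⟩, ?_⟩, fun B' ⟨h1, h2⟩ => ?_⟩
  · rw [← Category.assoc, hB, hb1]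
  · refine EtSets93.sect_ext F _ _ fun p => ?_
    refine ⟨objOf W (O p).ι, objOfHom W _, (⟨p, hO p⟩ : O p), rfl, ?_⟩
    rw [← Functor.map_comp_apply, ← op_comp, hB, hb2]
  · refine hom_ext_local _ _ fun p => ⟨O p, hO p, ?_⟩
    rw [hB]
    exact unique_rep e ψ σ hσ _ _ (by rw [Category.assoc, h1, hb1])
      (by rw [op_comp, Functor.map_comp_apply, h2, hb2])

end Groth.Agent.FEtSh4
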